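import Mathlib

/-!
Finitely many discrete valuations detect integrality of units over a discrete valuation ring in any
finite (possibly inseparable) extension.
-/

set_option autoImplicit false

universe u

namespace Groth.Agent.UnitsFG

open IsDedekindDomain

variable (O : Type u) [CommRing O] [IsDomain O] [IsLocalRing O] [IsPrincipalIdealRing O]
  (F : Type u) [Field F] [Algebra O F] [IsFractionRing O F]
  (K : Type u) [Field K] [Algebra F K] [Algebra O K] [IsScalarTower O F K] [FiniteDimensional F K]

include F in
/-- In a finite extension, the units integral over a local PID are cut out by finitely many valuations. -/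
theorem exists_valuationHom : ∃ (ι : Type u) (_ : Finite ι) (φ : Kˣ →* (ι → Multiplicative ℤ)),
    ∀ u, φ u = 1 → IsIntegral O (u : K) := by
  classical
  let Ks := separableClosure F K
  letI : Algebra O Ks := ((algebraMap F Ks).comp (algebraMap O F)).toAlgebra
  haveI : IsScalarTower O F Ks := IsScalarTower.of_algebraMap_eq fun _ => rfl
  haveI : IsScalarTower O Ks K := IsScalarTower.of_algebraMap_eq fun a => IsScalarTower.algebraMap_apply O F K a
  let B := integralClosure O Ks
  have hded : IsDedekindDomain B := integralClosure.isDedekindDomain O F Ks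
  haveI := hded
  haveI : IsFractionRing B Ks := integralClosure.isFractionRing_of_finite_extension F Ks
  haveI : Algebra.IsIntegral O B := IsIntegralClosure.isIntegral_algebra O Ks
  have hBinj : Function.Injective (algebraMap O B) := fun a b h =>
    IsFractionRing.injective O F ((algebraMap F Ks).injective (congrArg (algebraMap B Ks) h))
  obtain ⟨π, hπ⟩ := (IsPrincipalIdealRing.principal (IsLocalRing.maximalIdeal O)).principal
  let π' : O := if π = 0 then 1 else π
  have hπ'0 : π' ≠ 0 := by simp only [π']; split_ifs with h <;> simp [h]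
  have hmem : ∀ P : HeightOneSpectrum B, algebraMap O B π' ∈ P.asIdeal := by
    intro P
    haveI := P.isPrime
    have hcb : P.asIdeal.comap (algebraMap O B) ≠ ⊥ := fun h => P.ne_bot (Ideal.eq_bot_of_comap_eq_bot h)
    have hp : (P.asIdeal.comap (algebraMap O B)).IsPrime := Ideal.IsPrime.comap _
    have hle : P.asIdeal.comap (algebraMap O B) ≤ IsLocalRing.maximalIdeal O :=
      IsLocalRing.le_maximalIdeal hp.ne_top
    have hπ0 : π ≠ 0 := fun h => hcb (le_bot_iff.1 (hle.trans (le_of_eq (by
      rw [hπ, h]; exact Ideal.span_singleton_eq_bot.2 rfl))))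
    show π' ∈ P.asIdeal.comap (algebraMap O B)
    rw [(hp.isMaximal hcb).eq_of_le (IsLocalRing.maximalIdeal.isMaximal O).ne_top hle, hπ]
    simp only [π', if_neg hπ0]
    exact Submodule.mem_span_singleton_self π
  have hfinι : Finite (HeightOneSpectrum B) := by
    have h0 : Ideal.span ({algebraMap O B π'} : Set B) ≠ 0 := by
      rw [ne_eq, Submodule.zero_eq_bot, Ideal.span_singleton_eq_bot]
      exact fun h => hπ'0 (hBinj (h.trans (map_zero _).symm))
    exact Set.finite_univ_iff.1 ((Ideal.finite_factors h0).subset fun P _ =>
      Ideal.dvd_span_singleton.2 (hmem P))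
  obtain ⟨p, hp⟩ := ExpChar.exists F
  haveI : IsPurelyInseparable Ks K := separableClosure.isPurelyInseparable F K
  haveI : ExpChar Ks p := expChar_of_injective_ringHom (algebraMap F Ks).injective p
  obtain ⟨e, he⟩ := (IsPurelyInseparable.hasExponent_iff' (K := Ks) (L := K) p).1 inferInstance
  choose red hq using he
  have hmul : ∀ x y, red (x * y) = red x * red y := fun x y =>
    (algebraMap Ks K).injective (by rw [hq, map_mul, hq, hq, mul_pow])
  have hone : red 1 = 1 := (algebraMap Ks K).injective (by rw [hq, map_one, one_pow])
  let redHom : K →* Ks := ⟨⟨red, hone⟩, hmul⟩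
  let e' := (WithZero.unitsWithZeroEquiv (α := Multiplicative ℤ)).toMonoidHom
  refine ⟨HeightOneSpectrum B, hfinι,
    MonoidHom.mk' (fun u P => e' (Units.map (P.valuation Ks).toMonoidWithZeroHom.toMonoidHom (Units.map redHom u)))
      (fun a b => funext fun P => by simp only [map_mul, Pi.mul_apply]), fun u hu => ?_⟩
  have hval : ∀ P : HeightOneSpectrum B, P.valuation Ks (red u) = 1 := fun P => by
    have h := congrFun hu P
    simp only [MonoidHom.mk'_apply, Pi.one_apply, e', MulEquiv.toMonoidHom_eq_coe, MonoidHom.coe_coe,
      EmbeddingLike.map_eq_one_iff] at h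
    exact congrArg Units.val h
  obtain ⟨b, hb⟩ := HeightOneSpectrum.mem_integers_of_valuation_le_one (R := B) Ks _ fun P => (hval P).le
  refine IsIntegral.of_pow (pow_pos (expChar_pos F p) e) ?_
  rw [← hq, ← hb]
  exact IsIntegral.algebraMap (B := K) (show IsIntegral O (b : Ks) from b.2)

end Groth.Agent.UnitsFG
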