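import Groth.Agent.UnitsFG.DegVal
import Groth.Agent.UnitsFG.Semilocal

/-!
Units of a finitely generated domain modulo algebraic constants form a finitely generated group:
they are detected by finitely many valuations at infinity.
-/

set_option autoImplicit false

universe u

namespace Groth.Agent.UnitsFG

variable (k : Type u) [Field k]

theorem coeffs_const {n : ℕ} [Nonempty (Fin n)] (K : Type u) [Field K]
    [Algebra (MvPolynomial (Fin n) k) K] [FaithfulSMul (MvPolynomial (Fin n) k) K]
    [Algebra (FractionRing (MvPolynomial (Fin n) k)) K]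
    [IsScalarTower (MvPolynomial (Fin n) k) (FractionRing (MvPolynomial (Fin n) k)) K]
    (w : Valuation (FractionRing (MvPolynomial (Fin n) k)) (WithZero (Multiplicative ℤ)))
    [IsIntegrallyClosed w.valuationSubring] [Algebra w.valuationSubring K]
    [IsScalarTower w.valuationSubring (FractionRing (MvPolynomial (Fin n) k)) K]
    (hw : ∀ r : MvPolynomial (Fin n) k, w (algebraMap _ _ r) ≤ 1 → r = MvPolynomial.C (MvPolynomial.coeff 0 r))
    (x : K) (hR : IsIntegral (MvPolynomial (Fin n) k) x) (hO : IsIntegral w.valuationSubring x) :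
    ∃ p : Polynomial k, p.Monic ∧ Polynomial.aeval x (p.map (MvPolynomial.C (σ := Fin n))) = 0 := by
  let R := MvPolynomial (Fin n) k
  let F := FractionRing R
  have h1 := minpoly.isIntegrallyClosed_eq_field_fractions' F hR
  have h2 := minpoly.isIntegrallyClosed_eq_field_fractions' F hO
  have hcoef : ∀ i, (minpoly R x).coeff i = MvPolynomial.C (MvPolynomial.coeff 0 ((minpoly R x).coeff i)) := by
    intro i
    refine hw _ ?_
    have h3 : algebraMap R F ((minpoly R x).coeff i) =
        algebraMap w.valuationSubring F ((minpoly w.valuationSubring x).coeff i) := by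
      rw [← Polynomial.coeff_map, ← Polynomial.coeff_map, ← h1, h2]
    rw [h3]
    exact ((minpoly w.valuationSubring x).coeff i).2
  obtain ⟨p, hp, -, hmonic⟩ := Polynomial.lifts_and_degree_eq_and_monic
    ((Polynomial.lifts_iff_coeff_lifts (f := MvPolynomial.C (σ := Fin n) (R := k)) (minpoly R x)).2 fun i =>
      ⟨MvPolynomial.coeff 0 ((minpoly R x).coeff i), (hcoef i).symm⟩) (minpoly.monic hR)
  exact ⟨p, hmonic, by rw [hp]; exact minpoly.aeval R x⟩

variable (A : Type u) [CommRing A] [IsDomain A] [Algebra k A] [Algebra.FiniteType k A]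

/-- Finitely many valuations cut out the units that are algebraic over the constants. -/
theorem exists_unitsHom : ∃ (ι : Type u) (_ : Finite ι) (φ : Aˣ →* (ι → Multiplicative ℤ)),
    ∀ u, φ u = 1 → IsIntegral k (u : A) := by
  classical
  obtain ⟨n, g, hinj, hgfin⟩ := exists_finite_inj_algHom_of_fg k A
  rcases Nat.eq_zero_or_pos n with hn0 | hn0
  · subst hn0
    refine ⟨PEmpty, inferInstance, 1, fun u _ => ?_⟩
    have : Module.Finite k (MvPolynomial (Fin 0) k) :=
      Module.Finite.equiv (MvPolynomial.isEmptyAlgEquiv k (Fin 0)).symm.toLinearEquiv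
    let : Algebra (MvPolynomial (Fin 0) k) A := g.toRingHom.toAlgebra
    have : Module.Finite (MvPolynomial (Fin 0) k) A := hgfin
    have : IsScalarTower k (MvPolynomial (Fin 0) k) A :=
      IsScalarTower.of_algebraMap_eq fun c => (g.commutes c).symm
    have : Module.Finite k A := Module.Finite.trans (MvPolynomial (Fin 0) k) A
    exact Algebra.IsIntegral.isIntegral _
  have : Nonempty (Fin n) := ⟨⟨0, hn0⟩⟩
  let R := MvPolynomial (Fin n) k
  let : Algebra R A := g.toRingHom.toAlgebra
  have : Module.Finite R A := hgfin
  have : IsScalarTower k R A := IsScalarTower.of_algebraMap_eq fun c => (g.commutes c).symm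
  have : FaithfulSMul R A := (faithfulSMul_iff_algebraMap_injective R A).2 hinj
  let F := FractionRing R
  let K := FractionRing A
  let : Algebra F K := FractionRing.liftAlgebra R K
  have : IsScalarTower R F K := FractionRing.isScalarTower_liftAlgebra R K
  have : FiniteDimensional F K := .of_isLocalization R A (nonZeroDivisors R)
  obtain ⟨w, hnt, hw⟩ := exists_degValuation (Fin n) k
  have : IsCyclic (WithZero (Multiplicative ℤ))ˣ :=
    isCyclic_of_surjective (WithZero.unitsWithZeroEquiv (α := Multiplicative ℤ)).symm
      (WithZero.unitsWithZeroEquiv (α := Multiplicative ℤ)).symm.surjective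
  have : IsPrincipalIdealRing w.valuationSubring := Valuation.valuationSubring_isPrincipalIdealRing w
  let : Algebra w.valuationSubring K := ((algebraMap F K).comp (algebraMap w.valuationSubring F)).toAlgebra
  have : IsScalarTower w.valuationSubring F K := IsScalarTower.of_algebraMap_eq fun _ => rfl
  obtain ⟨ι, hι, φ, hφ⟩ := exists_valuationHom w.valuationSubring F K
  refine ⟨ι, hι, φ.comp (Units.map (algebraMap A K).toMonoidHom), fun u hu => ?_⟩
  have hO := hφ _ hu
  have hR : IsIntegral R (algebraMap A K (u : A)) :=
    (Algebra.IsIntegral.isIntegral (R := R) (u : A)).algebraMap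
  obtain ⟨p, hmonic, hp⟩ := coeffs_const k K w hw _ hR hO
  refine ⟨p, hmonic, ?_⟩
  apply IsFractionRing.injective A K
  rw [map_zero, ← hp, Polynomial.aeval_def, Polynomial.eval₂_map, Polynomial.hom_eval₂]
  congr 1
  refine RingHom.ext fun c => ?_
  rw [RingHom.comp_apply, RingHom.comp_apply, IsScalarTower.algebraMap_apply k R A, ← IsScalarTower.algebraMap_apply R A K]
  rfl

end Groth.Agent.UnitsFG
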