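import Groth.Agent.UnitsFG.Affine
import Groth.Agent.WeilLib.Trdeg

/-!
Units modulo constants on a reduced scheme of finite type over a field.
-/

set_option autoImplicit false
set_option backward.isDefEq.respectTransparency false
set_option linter.style.haveILetI false

universe u

open CategoryTheory AlgebraicGeometry TopologicalSpace Opposite

namespace Groth.Agent.UnitsFG

open Groth.Agent.WeilLib

variable (k : Type u) [Field k] (X : Scheme.{u})

theorem exists_dense_affine (hirr : (irreducibleComponents (X : Type u)).Finite) [IsReduced X] :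
    ∃ U : irreducibleComponents (X : Type u) → X.Opens,
      (∀ Z, IsAffineOpen (U Z) ∧ IsDomain Γ(X, U Z)) ∧
      ∀ O : X.Opens, (O : Set X).Nonempty → ∃ Z, ((O : Set X) ∩ U Z).Nonempty := by
  classical
  have key : ∀ Z : irreducibleComponents (X : Type u), ∃ U : X.Opens, IsAffineOpen U ∧ (U : Set X).Nonempty ∧
      (U : Set X) ⊆ Z.1 := by
    intro Z
    set S := ⋃₀ (irreducibleComponents (X : Type u) \ {Z.1}) with hS
    have hSc : IsClosed S := by
      rw [hS, Set.sUnion_eq_biUnion]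
      exact Set.Finite.isClosed_biUnion (hirr.subset Set.sdiff_subset)
        fun T hT => isClosed_of_mem_irreducibleComponents T hT.1
    have hne : (Sᶜ).Nonempty := by
      rw [Set.nonempty_compl]
      intro h
      obtain ⟨T, hT, hTsub⟩ := isIrreducible_iff_sUnion_isClosed.1 Z.2.1
        (hirr.subset Set.sdiff_subset).toFinset (fun T hT => isClosed_of_mem_irreducibleComponents T
          ((Set.Finite.mem_toFinset _).1 hT).1)
        (by rw [Set.Finite.coe_toFinset]; exact (hS ▸ h) ▸ Set.subset_univ _)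
      rw [Set.Finite.mem_toFinset] at hT
      exact hT.2 (le_antisymm (Z.2.2 hT.1.1 hTsub) hTsub)
    obtain ⟨x, hx⟩ := hne
    obtain ⟨W, hW, hxW, hWS⟩ := exists_isAffineOpen_mem_and_subset (X := X) (x := x) (U := ⟨Sᶜ, hSc.isOpen_compl⟩) hx
    refine ⟨W, hW, ⟨x, hxW⟩, fun y hy => ?_⟩
    have hcov : y ∈ ⋃₀ irreducibleComponents (X : Type u) :=
      ⟨irreducibleComponent y, irreducibleComponent_mem_irreducibleComponents y, mem_irreducibleComponent⟩
    obtain ⟨T, hT, hyT⟩ := hcov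
    by_cases hTZ : T = Z.1
    · exact hTZ ▸ hyT
    · exact absurd ⟨T, ⟨hT, hTZ⟩, hyT⟩ (hWS hy)
  choose U hU hne hsub using key
  refine ⟨U, fun Z => ⟨hU Z, ?_⟩, fun O hO => ?_⟩
  · have hirrU : IsIrreducible (U Z : Set X) :=
      ⟨hne Z, IsPreirreducible.open_subset Z.2.1.2 (U Z).2 (hsub Z)⟩
    haveI : IrreducibleSpace (U Z : Scheme.{u}) := Subtype.irreducibleSpace hirrU
    haveI : AlgebraicGeometry.IsIntegral (U Z : Scheme.{u}) := isIntegral_of_irreducibleSpace_of_isReduced _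
    haveI : IsDomain Γ((U Z : Scheme.{u}), ⊤) := inferInstance
    exact (U Z).topIso.commRingCatIsoToRingEquiv.symm.toMulEquiv.isDomain _
  · obtain ⟨x, hx⟩ := hO
    let Z : irreducibleComponents (X : Type u) := ⟨_, irreducibleComponent_mem_irreducibleComponents x⟩
    refine ⟨Z, ?_⟩
    obtain ⟨y, -, hy⟩ := Z.2.1.2 _ _ O.2 (U Z).2 ⟨x, mem_irreducibleComponent, hx⟩
      ((hne Z).mono fun y hy => ⟨hsub Z hy, hy⟩)
    exact ⟨y, hy⟩

theorem units_fg (f : X ⟶ Spec (CommRingCat.of k)) [LocallyOfFiniteType f] [IsReduced X]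
    (hirr : (irreducibleComponents (X : Type u)).Finite)
    (hint : ∀ x : Γ(X, ⊤), (f.appTop.hom.comp (Scheme.ΓSpecIso (CommRingCat.of k)).inv.hom).IsIntegralElem x →
      x ∈ Set.range (f.appTop.hom.comp (Scheme.ΓSpecIso (CommRingCat.of k)).inv.hom)) :
    Group.FG ((Γ(X, ⊤))ˣ ⧸ (Units.map ((f.appTop.hom.comp (Scheme.ΓSpecIso (CommRingCat.of k)).inv.hom :
      k →+* Γ(X, ⊤)) : k →* Γ(X, ⊤))).range) := by
  classical
  set c₀ : k →+* Γ(X, ⊤) := f.appTop.hom.comp (Scheme.ΓSpecIso (CommRingCat.of k)).inv.hom with hc₀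
  obtain ⟨U, hU, hdense⟩ := exists_dense_affine X hirr
  haveI : Fintype (irreducibleComponents (X : Type u)) := hirr.fintype
  let r : ∀ Z, Γ(X, ⊤) →+* Γ(X, U Z) := fun Z => (X.presheaf.map (homOfLE (le_top : U Z ≤ ⊤)).op).hom
  have hr : ∀ Z, (r Z).comp c₀ = secStr f (U Z) := fun Z => RingHom.ext fun c => rfl
  have hloc : ∀ Z, ∃ (ι : Type u) (_ : Finite ι) (φ : (Γ(X, U Z))ˣ →* (ι → Multiplicative ℤ)),
      ∀ u, φ u = 1 → (secStr f (U Z)).IsIntegralElem (u : Γ(X, U Z)) := fun Z => by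
    letI := (secStr f (U Z)).toAlgebra
    haveI : Algebra.FiniteType k Γ(X, U Z) := finiteType_secStr f (hU Z).1
    haveI := (hU Z).2
    exact exists_unitsHom k Γ(X, U Z)
  choose ι hι φ hφ using hloc
  haveI := hι
  let Ψ : (Γ(X, ⊤))ˣ →* ((Σ Z, ι Z) → Multiplicative ℤ) :=
    MonoidHom.mk' (fun u i => φ i.1 (Units.map (r i.1).toMonoidHom u) i.2)
      fun a b => funext fun i => by simp only [map_mul, Pi.mul_apply]
  have hker : Ψ.ker ≤ (Units.map (c₀ : k →* Γ(X, ⊤))).range := by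
    intro u hu
    have hp : ∀ Z, ∃ p : Polynomial k, p.Monic ∧ p.eval₂ (secStr f (U Z)) (r Z (u : Γ(X, ⊤))) = 0 := fun Z =>
      hφ Z (Units.map (r Z).toMonoidHom u) (funext fun i => congrFun hu ⟨Z, i⟩)
    choose p hmonic hev using hp
    set v := (∏ Z, p Z).eval₂ c₀ (u : Γ(X, ⊤)) with hv
    have hres : ∀ Z, r Z v = 0 := fun Z => by
      rw [hv, Polynomial.hom_eval₂, hr, Polynomial.eval₂_finsetProd, Finset.prod_eq_zero (Finset.mem_univ Z) (hev Z)]
    have hv0 : v = 0 := by
      rw [← basicOpen_eq_bot_iff]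
      by_contra hne
      obtain ⟨Z, y, hy, hyU⟩ := hdense _ ((Opens.ne_bot_iff_nonempty _).1 hne)
      have : y ∈ X.basicOpen (r Z v) := by
        rw [Scheme.basicOpen_res]; exact ⟨hyU, hy⟩
      rw [hres, Scheme.basicOpen_zero] at this
      exact this.elim
    obtain ⟨c, hc⟩ := hint u ⟨∏ Z, p Z, Polynomial.monic_prod_of_monic _ _ fun Z _ => hmonic Z, hv0⟩
    by_cases hc0 : c = 0
    · have h01 : (u : Γ(X, ⊤)) = 0 := by rw [← hc, hc0, map_zero]
      haveI : Subsingleton Γ(X, ⊤) := subsingleton_of_zero_eq_one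
        (by rw [← u.mul_inv, h01, zero_mul])
      exact ⟨1, Units.ext (Subsingleton.elim _ _)⟩
    · exact ⟨Units.mk0 c hc0, Units.ext hc⟩
  haveI : Group.FG ((Γ(X, ⊤))ˣ ⧸ Ψ.ker) := by
    refine GroupFG.iff_add_fg.2 ?_
    let T : Additive ((Γ(X, ⊤))ˣ ⧸ Ψ.ker) →+ ((Σ Z, ι Z) → ℤ) :=
      AddMonoidHom.mk' (fun q i => Multiplicative.toAdd (QuotientGroup.kerLift Ψ (Additive.toMul q) i))
        fun a b => funext fun i => by
          simp only [toMul_add, map_mul, Pi.mul_apply, toAdd_mul, Pi.add_apply]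
    have hT : Function.Injective T := fun a b h =>
      Additive.toMul.injective (QuotientGroup.kerLift_injective Ψ
        (funext fun i => Multiplicative.toAdd.injective (congrFun h i)))
    have hfg : AddGroup.FG T.range := by
      refine Module.Finite.iff_addGroup_fg.1 ?_
      exact Module.Finite.equiv (LinearEquiv.ofEq (AddSubgroup.toIntSubmodule T.range) _ rfl)
    exact (AddGroup.fg_of_surjective (f := (AddMonoidHom.ofInjective hT).symm.toAddMonoidHom)
      (AddMonoidHom.ofInjective hT).symm.surjective)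
  exact Group.fg_of_surjective
    (f := QuotientGroup.map Ψ.ker _ (MonoidHom.id _) hker)
    (fun q => QuotientGroup.induction_on q fun a => ⟨QuotientGroup.mk a, rfl⟩)

end Groth.Agent.UnitsFG
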