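import Mathlib

/-!
The total-degree valuation on the fraction field of a polynomial ring.
-/

set_option autoImplicit false

universe u v

namespace Groth.Agent.UnitsFG

/-- Substituting `X i ↦ X i * T` into a multivariate polynomial sorts it by homogeneous components. -/
theorem coeff_aeval_mul_X {σ : Type u} {k : Type v} [CommRing k] (r : MvPolynomial σ k) (d : ℕ) :
    ((MvPolynomial.aeval fun i => Polynomial.C (MvPolynomial.X i) * Polynomial.X :
      MvPolynomial σ k →ₐ[k] Polynomial (MvPolynomial σ k)) r).coeff d =
        MvPolynomial.homogeneousComponent d r := by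
  set θ := (MvPolynomial.aeval fun i => Polynomial.C (MvPolynomial.X i) * Polynomial.X :
      MvPolynomial σ k →ₐ[k] Polynomial (MvPolynomial σ k)) with hθ
  induction r using MvPolynomial.induction_on' with
  | monomial s c =>
    have key : θ (MvPolynomial.monomial s c) =
        Polynomial.C (MvPolynomial.monomial s c) * Polynomial.X ^ s.degree := by
      rw [hθ, MvPolynomial.aeval_monomial,
        IsScalarTower.algebraMap_apply k (MvPolynomial σ k) (Polynomial (MvPolynomial σ k)),
        Polynomial.algebraMap_eq, MvPolynomial.algebraMap_eq, MvPolynomial.monomial_eq, map_mul,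
        Finsupp.prod, Finsupp.prod, Finsupp.degree_apply, mul_assoc]
      congr 1
      simp only [mul_pow, Finset.prod_mul_distrib, map_prod, map_pow, Finset.prod_pow_eq_pow_sum]
    rw [key, Polynomial.coeff_C_mul, Polynomial.coeff_X_pow,
      MvPolynomial.homogeneousComponent_of_mem (MvPolynomial.isHomogeneous_monomial c rfl)]
    split_ifs <;> simp
  | add p q hp hq => rw [map_add, Polynomial.coeff_add, hp, hq, map_add]

/-- A discrete valuation which is `> 1` on every nonconstant polynomial. -/
theorem exists_degValuation (σ : Type u) [Nonempty σ] (k : Type v) [Field k] :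
    ∃ w : Valuation (FractionRing (MvPolynomial σ k)) (WithZero (Multiplicative ℤ)), w.IsNontrivial ∧
      ∀ r : MvPolynomial σ k, w (algebraMap _ _ r) ≤ 1 → r = MvPolynomial.C (MvPolynomial.coeff 0 r) := by
  classical
  let F := FractionRing (MvPolynomial σ k)
  let θ : MvPolynomial σ k →ₐ[k] Polynomial (MvPolynomial σ k) :=
    MvPolynomial.aeval fun i => Polynomial.C (MvPolynomial.X i) * Polynomial.X
  have hθ : Function.Injective θ := fun a b h => by
    refine MvPolynomial.ext _ _ fun s => ?_
    have hc := congrArg (fun p : Polynomial (MvPolynomial σ k) => MvPolynomial.coeff s (p.coeff s.degree)) h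
    simp only [θ, coeff_aeval_mul_X, MvPolynomial.coeff_homogeneousComponent, if_pos] at hc
    exact hc
  let ψ₀ : MvPolynomial σ k →+* RatFunc F :=
    (algebraMap (Polynomial F) (RatFunc F)).comp
      ((Polynomial.mapRingHom (algebraMap (MvPolynomial σ k) F)).comp θ.toRingHom)
  have hψ₀ : Function.Injective ψ₀ :=
    (IsFractionRing.injective (Polynomial F) (RatFunc F)).comp
      ((Polynomial.map_injective _ (IsFractionRing.injective (MvPolynomial σ k) F)).comp hθ)
  let w : Valuation F (WithZero (Multiplicative ℤ)) :=
    (RatFunc.inftyValuation F).comap (IsFractionRing.lift (K := F) hψ₀)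
  have hw : ∀ r : MvPolynomial σ k, w (algebraMap _ F r) ≤ 1 → r = MvPolynomial.C (MvPolynomial.coeff 0 r) := by
    intro r hr
    have hr' : RatFunc.inftyValuation F (ψ₀ r) ≤ 1 := by
      rw [← IsFractionRing.lift_algebraMap (K := F) hψ₀ r]; exact hr
    rw [RatFunc.inftyValuation_apply] at hr'
    have hdeg : (θ r).natDegree = 0 := by
      rcases eq_or_ne (θ r) 0 with h0 | h0
      · rw [h0, Polynomial.natDegree_zero]
      · have hm : (θ r).map (algebraMap _ F) ≠ 0 :=
          (Polynomial.map_ne_zero_iff (IsFractionRing.injective (MvPolynomial σ k) F)).2 h0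
        rw [show ψ₀ r = algebraMap (Polynomial F) (RatFunc F) ((θ r).map (algebraMap _ F)) from rfl,
          RatFunc.inftyValuationDef, if_neg (RatFunc.algebraMap_ne_zero hm), RatFunc.intDegree_polynomial,
          Polynomial.natDegree_map_eq_of_injective (IsFractionRing.injective (MvPolynomial σ k) F),
          ← WithZero.exp_zero, WithZero.exp_le_exp] at hr'
        omega
    refine MvPolynomial.ext _ _ fun s => ?_
    rw [MvPolynomial.coeff_C]
    split_ifs with h
    · rw [h]
    · have hs : s.degree ≠ 0 := fun e => h ((Finsupp.degree_eq_zero_iff s).1 e).symm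
      have h0 : (θ r).coeff s.degree = 0 := Polynomial.coeff_eq_zero_of_natDegree_lt (by omega)
      have h1 := congrArg (MvPolynomial.coeff s) h0
      rw [coeff_aeval_mul_X, MvPolynomial.coeff_homogeneousComponent, if_pos rfl, MvPolynomial.coeff_zero] at h1
      exact h1
  refine ⟨w, ?_, hw⟩
  obtain ⟨i⟩ := (inferInstance : Nonempty σ)
  refine ⟨algebraMap (MvPolynomial σ k) F (MvPolynomial.X i), fun h => ?_, fun h => ?_⟩
  · exact MvPolynomial.X_ne_zero (R := k) i
      (IsFractionRing.injective (MvPolynomial σ k) F (((map_eq_zero w).1 h).trans (map_zero _).symm))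
  · have h1 := congrArg MvPolynomial.totalDegree (hw _ h.le)
    rw [MvPolynomial.totalDegree_X, MvPolynomial.totalDegree_C] at h1
    exact one_ne_zero h1

end Groth.Agent.UnitsFG
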